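import Mathlib
import Cfsg.Prelude.Def_OddOrderLocal
import Cfsg.Agent.Lib.H22.PPrimeCore

/-!
# TI subgroups that are Hall in their normalizer, in `π`-separable groups (helper5)

Basic consequences: `H` is a Hall subgroup of `G`, `G = O N_G(H)` for the largest normal
subgroup `O` of order prime to `|H|`, and `O H ⊴ G`.  No solvability is used: wherever the
usual proofs use conjugacy of Hall subgroups we use Sylow's theorem and the TI property.
-/

set_option autoImplicit false

namespace Cfsg.Agent.Lib.H5.TIH

open Subgroup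

variable {G : Type*} [Group G]

/-- elements of `G` conjugating a nonidentity element of a TI subgroup into it normalize it -/
theorem mem_normalizer_of_conj_mem {H : Subgroup G} (hTI : Cfsg.IsTISubset (H : Set G))
    {g x : G} (hx : x ∈ H) (hx1 : x ≠ 1) (hgx : g * x * g⁻¹ ∈ H) :
    g ∈ normalizer (H : Set G) := by
  by_contra hg
  exact hx1 (hTI g hg x hx hgx)

/-- the normalizer of a nontrivial subgroup of a TI subgroup lies in the normalizer -/
theorem normalizer_le_of_le {H : Subgroup G} (hTI : Cfsg.IsTISubset (H : Set G))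
    {X : Subgroup G} (hX : X ≤ H) (hX1 : X ≠ ⊥) :
    normalizer (X : Set G) ≤ normalizer (H : Set G) := by
  intro g hg
  obtain ⟨x, hx, hx1⟩ : ∃ x ∈ X, x ≠ 1 := by
    by_contra hne
    push Not at hne
    exact hX1 ((Subgroup.eq_bot_iff_forall X).mpr hne)
  have h1 : g * x * g⁻¹ ∈ X := (mem_normalizer_iff.mp hg x).mp hx
  exact mem_normalizer_of_conj_mem hTI (hX hx) hx1 (hX h1)

variable [Finite G]

/-- `|N_G(H)| = |H| |N_G(H) : H|` -/
theorem card_normalizer_eq (H : Subgroup G) :
    Nat.card (normalizer (H : Set G)) =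
      Nat.card H * (H.subgroupOf (normalizer (H : Set G))).index := by
  rw [← Subgroup.card_mul_index (H.subgroupOf (normalizer (H : Set G)))]
  congr 1
  exact Nat.card_congr (Subgroup.subgroupOfEquivOfLe (le_normalizer (H := H))).toEquiv

/-- a TI subgroup that is a Hall subgroup of its normalizer is a Hall subgroup of `G` -/
theorem coprime_index {H : Subgroup G} (hTI : Cfsg.IsTISubset (H : Set G))
    (hHall : (Nat.card H).Coprime (H.subgroupOf (normalizer (H : Set G))).index) :
    (Nat.card H).Coprime H.index := by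
  apply Nat.coprime_of_dvd
  intro p hp hpH hpI
  have : Fact p.Prime := ⟨hp⟩
  obtain ⟨P⟩ : Nonempty (Sylow p H) := inferInstance
  set n := (Nat.card H).factorization p with hn
  have hPc : Nat.card P = p ^ n := P.card_eq_multiplicity
  set P' : Subgroup G := (P : Subgroup H).map H.subtype with hP'
  have hP'c : Nat.card P' = p ^ n := by
    rw [← hPc]
    exact Nat.card_congr
      ((P : Subgroup H).equivMapOfInjective H.subtype H.subtype_injective).toEquiv.symm
  have hP'H : P' ≤ H := by
    rintro x ⟨y, -, rfl⟩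
    exact y.2
  have hn1 : 1 ≤ n := by
    have hpos : Nat.card H ≠ 0 := Nat.card_pos.ne'
    exact (hp.dvd_iff_one_le_factorization hpos).mp hpH
  have hP'1 : P' ≠ ⊥ := by
    intro h
    rw [h, Subgroup.card_bot] at hP'c
    have : 1 < p ^ n := Nat.one_lt_pow (by omega) hp.one_lt
    omega
  have hdvdG : p ^ (n + 1) ∣ Nat.card G := by
    rw [← Subgroup.card_mul_index H, pow_succ]
    exact Nat.mul_dvd_mul (Nat.ordProj_dvd _ _) hpI
  have h1 : p ^ (n + 1) ∣ Nat.card (normalizer (P' : Set G)) :=
    Sylow.prime_pow_dvd_card_normalizer hdvdG hP'c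
  have h2 : Nat.card (normalizer (P' : Set G)) ∣ Nat.card (normalizer (H : Set G)) :=
    Subgroup.card_dvd_of_le (normalizer_le_of_le hTI hP'H hP'1)
  have h3 := h1.trans h2
  rw [card_normalizer_eq] at h3
  have hcop : (p ^ (n + 1)).Coprime (H.subgroupOf (normalizer (H : Set G))).index := by
    apply Nat.Coprime.pow_left
    exact Nat.Coprime.coprime_dvd_left hpH hHall
  have h4 : p ^ (n + 1) ∣ Nat.card H := hcop.dvd_of_dvd_mul_right h3
  have h5 := (Nat.Prime.pow_dvd_iff_le_factorization hp Nat.card_pos.ne').mp h4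
  omega

/-- the `π'`-core meets `H` trivially -/
theorem core_inf_eq_bot (H : Subgroup G) : Cfsg.pPrimeCore (Nat.card H) G ⊓ H = ⊥ := by
  exact (Subgroup.disjoint_of_coprime_natCard
    (Cfsg.Agent.Lib.H22.card_pPrimeCore_coprime (Nat.card H))).eq_bot

end Cfsg.Agent.Lib.H5.TIH
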