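import Mathlib
import Cfsg.Agent.Lib.H5.TIH.A

/-!
# `G = O N_G(H)` and `O H ⊴ G` (helper5)
-/

set_option autoImplicit false

namespace Cfsg.Agent.Lib.H5.TIH

open Subgroup

variable {G : Type*} [Group G] [Finite G]

/-- `π(H)`-separability of `G`, in the form used in the frozen statements -/
def PiSep (H : Subgroup G) : Prop :=
  ∃ (n : ℕ) (M : Fin (n + 1) → Subgroup G), M 0 = ⊥ ∧ M (Fin.last n) = ⊤ ∧ Monotone M ∧
    (∀ i, (M i).Normal) ∧ ∀ i : Fin n,
      (∀ q : ℕ, q.Prime → q ∣ (M i.castSucc).relIndex (M i.succ) → q ∣ Nat.card H) ∨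
        ((M i.castSucc).relIndex (M i.succ)).Coprime (Nat.card H)

/-- `|A| |B : A| = |B|` -/
theorem card_mul_relIndex {A B : Subgroup G} (h : A ≤ B) :
    Nat.card A * A.relIndex B = Nat.card B := by
  have := Subgroup.relIndex_mul_relIndex ⊥ A B bot_le h
  rwa [Subgroup.relIndex_bot_left, Subgroup.relIndex_bot_left] at this

/-- the first step of the series that leaves the `π'`-core is a `π`-step -/
theorem exists_pi_step {H : Subgroup G} (hsep : PiSep H) (hH : H ≠ ⊥) :
    ∃ A B : Subgroup G, B.Normal ∧ A ≤ B ∧ A ≤ Cfsg.pPrimeCore (Nat.card H) G ∧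
      ¬ B ≤ Cfsg.pPrimeCore (Nat.card H) G ∧
      ∀ q : ℕ, q.Prime → q ∣ A.relIndex B → q ∣ Nat.card H := by
  classical
  obtain ⟨n, M, h0, hlast, hmono, hnorm, hstep⟩ := hsep
  set O := Cfsg.pPrimeCore (Nat.card H) G with hO
  have hOcop : (Nat.card O).Coprime (Nat.card H) :=
    Cfsg.Agent.Lib.H22.card_pPrimeCore_coprime (Nat.card H)
  have htop : ¬ (⊤ : Subgroup G) ≤ O := by
    intro h
    apply hH
    have h1 : H ≤ O := le_top.trans h
    have h2 := core_inf_eq_bot H
    rw [← hO, inf_of_le_right h1] at h2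
    exact h2
  -- the least index whose term is not inside `O`
  have hex : ∃ k : ℕ, ∃ hk : k < n + 1, ¬ M ⟨k, hk⟩ ≤ O := by
    refine ⟨n, Nat.lt_succ_self n, ?_⟩
    have : (⟨n, Nat.lt_succ_self n⟩ : Fin (n + 1)) = Fin.last n := rfl
    rw [this, hlast]
    exact htop
  set k := Nat.find hex with hk
  obtain ⟨hkn, hkO⟩ := Nat.find_spec hex
  have hk0 : k ≠ 0 := by
    intro h0'
    apply hkO
    have : (⟨Nat.find hex, hkn⟩ : Fin (n + 1)) = 0 := by
      apply Fin.ext
      simpa [hk] using h0'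
    rw [this, h0]
    exact bot_le
  obtain ⟨j, hj⟩ : ∃ j, k = j + 1 := ⟨k - 1, by omega⟩
  have hjn : j < n := by omega
  have hjO : M ⟨j, by omega⟩ ≤ O := by
    by_contra hcon
    have := Nat.find_min' hex ⟨(by omega : j < n + 1), hcon⟩
    omega
  set i : Fin n := ⟨j, hjn⟩ with hi
  have hA : M i.castSucc = M ⟨j, by omega⟩ := rfl
  have hB : M i.succ = M ⟨Nat.find hex, hkn⟩ := by
    congr 1
    apply Fin.ext
    show j + 1 = Nat.find hex
    rw [← hj]
  have hAB : M i.castSucc ≤ M i.succ := hmono (Fin.castSucc_lt_succ (i := i)).le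
  refine ⟨M i.castSucc, M i.succ, hnorm _, hAB, by rw [hA]; exact hjO, by rw [hB]; exact hkO, ?_⟩
  rcases hstep i with h | h
  · exact h
  · exfalso
    apply hkO
    rw [← hB]
    apply Cfsg.Agent.Lib.H22.le_pPrimeCore _ _ (hnorm _)
    rw [← card_mul_relIndex hAB]
    apply Nat.Coprime.mul_left _ h
    exact Nat.Coprime.coprime_dvd_left (Subgroup.card_dvd_of_le (by rw [hA]; exact hjO)) hOcop


/-- `|H ⊓ L| |H L : H| = |L|` for normal `L` -/
theorem card_inf_mul_relIndex_sup (H L : Subgroup G) [L.Normal] :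
    Nat.card (H ⊓ L : Subgroup G) * H.relIndex (H ⊔ L) = Nat.card L := by
  have h1 : Nat.card (L ⊓ H : Subgroup G) * L.relIndex H = Nat.card H := by
    have := card_mul_relIndex (inf_le_right : L ⊓ H ≤ H)
    rwa [Subgroup.inf_relIndex_right] at this
  have h2 : Nat.card L * L.relIndex H = Nat.card (H ⊔ L : Subgroup G) := by
    have := card_mul_relIndex (le_sup_right : L ≤ H ⊔ L)
    rwa [Subgroup.relIndex_sup_right] at this
  have h3 : Nat.card H * H.relIndex (H ⊔ L) = Nat.card (H ⊔ L : Subgroup G) :=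
    card_mul_relIndex le_sup_left
  have hr : 0 < L.relIndex H := by
    rcases Nat.eq_zero_or_pos (L.relIndex H) with h | h
    · rw [h, mul_zero] at h1
      exact absurd h1.symm Nat.card_pos.ne'
    · exact h
  rw [inf_comm] at h1
  have : Nat.card (H ⊓ L : Subgroup G) * H.relIndex (H ⊔ L) * L.relIndex H =
      Nat.card L * L.relIndex H := by
    rw [h2, ← h3, ← h1]
    ring
  exact Nat.eq_of_mul_eq_mul_right hr this

/-- **`G = O_{π'}(G) N_G(H)`** for a TI subgroup `H`, Hall in its normalizer, of a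
`π(H)`-separable group. -/
theorem core_sup_normalizer_eq_top {H : Subgroup G} (hTI : Cfsg.IsTISubset (H : Set G))
    (hHall : (Nat.card H).Coprime (H.subgroupOf (normalizer (H : Set G))).index)
    (hsep : PiSep H) :
    Cfsg.pPrimeCore (Nat.card H) G ⊔ normalizer (H : Set G) = ⊤ := by
  classical
  by_cases hH : H = ⊥
  · subst hH
    rw [Subgroup.normalizer_eq_top, sup_top_eq]
  obtain ⟨A, B, hBn, hAB, hAO, hBO, hq⟩ := exists_pi_step hsep hH
  set O := Cfsg.pPrimeCore (Nat.card H) G with hO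
  haveI hOn : O.Normal := Cfsg.Agent.Lib.H22.pPrimeCore_normal (Nat.card H)
  have hOcop : (Nat.card O).Coprime (Nat.card H) :=
    Cfsg.Agent.Lib.H22.card_pPrimeCore_coprime (Nat.card H)
  have hHi : (Nat.card H).Coprime H.index := coprime_index hTI hHall
  set L := O ⊔ B with hL
  haveI hLn : L.Normal := Subgroup.sup_normal O B
  set b := O.relIndex B with hb
  have hb1 : b ≠ 1 := fun h => hBO (Subgroup.relIndex_eq_one.mp h)
  have hbq : ∀ q : ℕ, q.Prime → q ∣ b → q ∣ Nat.card H := fun q hq1 hq2 =>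
    hq q hq1 (hq2.trans (Subgroup.relIndex_dvd_of_le_left B hAO))
  have hLcard : Nat.card O * b = Nat.card L := by
    have := card_mul_relIndex (le_sup_left : O ≤ O ⊔ B)
    rwa [Subgroup.relIndex_sup_left] at this
  set D := H ⊓ L with hD
  set u := H.relIndex (H ⊔ L) with hu
  have hDu : Nat.card D * u = Nat.card L := card_inf_mul_relIndex_sup H L
  have hucop : u.Coprime (Nat.card H) :=
    (Nat.Coprime.coprime_dvd_right (Subgroup.relIndex_dvd_index_of_le le_sup_left) hHi).symm
  have hDH : Nat.card D ∣ Nat.card H := Subgroup.card_dvd_of_le inf_le_left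
  have hbu : b.Coprime u := by
    apply Nat.coprime_of_dvd
    intro q hq1 hq2 hq3
    have := hbq q hq1 hq2
    have h1 : q ∣ Nat.gcd u (Nat.card H) := Nat.dvd_gcd hq3 this
    rw [hucop] at h1
    exact hq1.one_lt.ne' (Nat.dvd_one.mp h1)
  have hbD : b ∣ Nat.card D := by
    apply hbu.dvd_of_dvd_mul_right
    rw [hDu, ← hLcard]
    exact dvd_mul_left _ _
  have hDb : Nat.card D ∣ b := by
    have hDO : (Nat.card D).Coprime (Nat.card O) :=
      (Nat.Coprime.coprime_dvd_right hDH hOcop).symm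
    apply hDO.dvd_of_dvd_mul_left
    rw [hLcard, ← hDu]
    exact dvd_mul_right _ _
  have hDcard : Nat.card D = b := Nat.dvd_antisymm hDb hbD
  -- `L = O D`
  have hOD : O ⊔ D = L := by
    apply Subgroup.eq_of_le_of_card_ge (sup_le le_sup_left inf_le_right)
    have h1 := card_mul_relIndex (le_sup_left : O ≤ O ⊔ D)
    rw [Subgroup.relIndex_sup_left] at h1
    have h2 : O.relIndex D = Nat.card D := by
      rw [← Subgroup.inf_relIndex_right]
      have : O ⊓ D = ⊥ := by
        rw [eq_bot_iff]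
        intro x hx
        have h3 : x ∈ O ⊓ H := ⟨hx.1, hx.2.1⟩
        rw [hO, core_inf_eq_bot] at h3
        exact h3
      rw [this, Subgroup.relIndex_bot_left]
    rw [h2, hDcard, hLcard] at h1
    exact h1.le
  -- a Sylow subgroup of `D` for a prime dividing `b`
  obtain ⟨p, hp, hpb⟩ := Nat.exists_prime_and_dvd hb1
  have : Fact p.Prime := ⟨hp⟩
  have hpH : p ∣ Nat.card H := hbq p hp hpb
  have hpO : ¬ p ∣ Nat.card O := by
    intro h
    have h1 : p ∣ Nat.gcd (Nat.card O) (Nat.card H) := Nat.dvd_gcd h hpH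
    rw [hOcop] at h1
    exact hp.one_lt.ne' (Nat.dvd_one.mp h1)
  obtain ⟨P⟩ : Nonempty (Sylow p D) := inferInstance
  set n := b.factorization p with hn
  have hPc : Nat.card P = p ^ n := by rw [hn, ← hDcard]; exact P.card_eq_multiplicity
  set P' : Subgroup G := (P : Subgroup D).map D.subtype with hP'
  have hP'c : Nat.card P' = p ^ n := by
    rw [← hPc]
    exact Nat.card_congr
      ((P : Subgroup D).equivMapOfInjective D.subtype D.subtype_injective).toEquiv.symm
  have hP'D : P' ≤ D := by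
    rintro x ⟨y, -, rfl⟩
    exact y.2
  have hb0 : b ≠ 0 := by
    intro h
    rw [h] at hDcard
    exact Nat.card_pos.ne' hDcard
  have hn1 : 1 ≤ n := (hp.dvd_iff_one_le_factorization hb0).mp hpb
  have hP'1 : P' ≠ ⊥ := by
    intro h
    rw [h, Subgroup.card_bot] at hP'c
    have : 1 < p ^ n := Nat.one_lt_pow (by omega) hp.one_lt
    omega
  have hP'L : P' ≤ L := hP'D.trans inf_le_right
  have hLfac : (Nat.card L).factorization p = n := by
    rw [← hLcard, Nat.factorization_mul Nat.card_pos.ne' hb0, Finsupp.add_apply,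
      Nat.factorization_eq_zero_of_not_dvd hpO, zero_add]
  have hcardS : Nat.card (P'.subgroupOf L) = p ^ (Nat.card L).factorization p := by
    rw [hLfac, ← hP'c]
    exact Nat.card_congr (Subgroup.subgroupOfEquivOfLe hP'L).toEquiv
  set S : Sylow p L := Sylow.ofCard (P'.subgroupOf L) hcardS with hS
  have hfr := Sylow.normalizer_sup_eq_top S
  have hSmap : (S : Subgroup L).map L.subtype = P' := by
    rw [hS, Sylow.coe_ofCard, Subgroup.map_subgroupOf_eq_of_le hP'L]
  rw [hSmap] at hfr
  have h1 : normalizer (P' : Set G) ≤ normalizer (H : Set G) :=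
    normalizer_le_of_le hTI (hP'D.trans inf_le_left) hP'1
  rw [eq_top_iff, ← hfr]
  apply sup_le (h1.trans le_sup_right)
  rw [← hOD]
  exact sup_le le_sup_left ((inf_le_left.trans le_normalizer).trans le_sup_right)

/-- **`O_{π'}(G) H ⊴ G`** -/
theorem core_sup_normal {H : Subgroup G} (hTI : Cfsg.IsTISubset (H : Set G))
    (hHall : (Nat.card H).Coprime (H.subgroupOf (normalizer (H : Set G))).index)
    (hsep : PiSep H) : (Cfsg.pPrimeCore (Nat.card H) G ⊔ H).Normal := by
  set O := Cfsg.pPrimeCore (Nat.card H) G with hO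
  have hOn : O.Normal := Cfsg.Agent.Lib.H22.pPrimeCore_normal (Nat.card H)
  rw [← Subgroup.normalizer_eq_top_iff, eq_top_iff,
    ← core_sup_normalizer_eq_top hTI hHall hsep, ← hO]
  apply sup_le
  · exact le_sup_left.trans le_normalizer
  · intro g hg
    rw [Subgroup.mem_normalizer_iff]
    have key : ∀ g : G, g ∈ normalizer (H : Set G) → ∀ x ∈ O ⊔ H, g * x * g⁻¹ ∈ O ⊔ H := by
      intro g hg x hx
      rw [← SetLike.mem_coe, Subgroup.normal_mul, Set.mem_mul] at hx
      obtain ⟨o, ho, h, hh, rfl⟩ := hx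
      have : g * (o * h) * g⁻¹ = (g * o * g⁻¹) * (g * h * g⁻¹) := by group
      rw [this]
      exact Subgroup.mul_mem_sup (hOn.conj_mem o ho g) ((mem_normalizer_iff.mp hg h).mp hh)
    intro x
    refine ⟨key g hg x, fun hx => ?_⟩
    have := key g⁻¹ (Subgroup.inv_mem _ hg) _ hx
    simpa [mul_assoc] using this

end Cfsg.Agent.Lib.H5.TIH
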