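import Mathlib
import Cfsg.Agent.Lib.H5.TIH.B
import Cfsg.Agent.S4115

/-!
# TI Hall subgroups of `π`-separable groups, part C

`H` is isomorphic to a Frobenius complement (in a group living in `Type`).
-/

set_option autoImplicit false

namespace Cfsg.Agent.Lib.H5.TIH

open Subgroup Pointwise

universe u v

/-- Frobenius complements are transported by isomorphisms -/
theorem frobCompl_map {F : Type u} {F' : Type v} [Group F] [Group F'] (e : F ≃* F')
    {C : Subgroup F} (hC : Cfsg.IsFrobeniusComplement C) :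
    Cfsg.IsFrobeniusComplement (C.map (e : F →* F')) := by
  obtain ⟨h1, h2, h3⟩ := hC
  refine ⟨?_, ?_, ?_⟩
  · intro h
    apply h1
    rw [eq_bot_iff] at h ⊢
    intro x hx
    have : e x ∈ C.map (e : F →* F') := ⟨x, hx, rfl⟩
    have := h this
    rw [Subgroup.mem_bot] at this ⊢
    exact e.map_eq_one_iff.mp this
  · intro h
    apply h2
    rw [eq_top_iff] at h ⊢
    intro x _
    obtain ⟨y, hy, hyx⟩ := h (Subgroup.mem_top (e x))
    have : y = x := e.injective hyx
    rwa [← this]
  · intro g' hg'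
    obtain ⟨g, rfl⟩ := e.surjective g'
    have hg : g ∉ C := fun h => hg' ⟨g, h, rfl⟩
    rw [eq_bot_iff]
    intro x hx
    obtain ⟨hx1, hx2⟩ := Subgroup.mem_inf.mp hx
    obtain ⟨c, hc, rfl⟩ := hx1
    rw [Subgroup.mem_pointwise_smul_iff_inv_smul_mem] at hx2
    obtain ⟨c', hc', hcc⟩ := hx2
    rw [Subgroup.mem_bot]
    have hcc' : e c' = e (g⁻¹ * c * g) := by
      have : ((e : F →* F') c' : F') = (MulAut.conj (e g))⁻¹ • ((e : F →* F') c) := hcc
      simp only [MonoidHom.coe_coe, MulAut.smul_def, ← map_inv, MulAut.conj_apply,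
        inv_inv] at this
      rw [this]
      simp [map_mul]
    have h4 : c' = g⁻¹ * c * g := e.injective hcc'
    have h5 : c ∈ C ⊓ (MulAut.conj g • C) := by
      refine Subgroup.mem_inf.mpr ⟨hc, ?_⟩
      rw [Subgroup.mem_pointwise_smul_iff_inv_smul_mem]
      simp only [MulAut.smul_def, ← map_inv, MulAut.conj_apply, inv_inv]
      rw [← h4]
      exact hc'
    rw [h3 g hg, Subgroup.mem_bot] at h5
    rw [h5]
    exact map_one _

/-- Frobenius complement realisations can be moved to `Type` -/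
theorem exists_frobCompl_type0 {H : Type v} [Group H]
    (h : ∃ (F : Type u) (_ : Group F) (_ : Finite F) (C : Subgroup F),
      Cfsg.IsFrobeniusComplement C ∧ Nonempty (H ≃* C)) :
    ∃ (L : Type) (_ : Group L) (_ : Finite L) (C : Subgroup L),
      Cfsg.IsFrobeniusComplement C ∧ Nonempty (H ≃* C) := by
  obtain ⟨F, _, _, C, hC, ⟨f⟩⟩ := h
  let e : F ≃* Shrink.{0} F := (Shrink.mulEquiv.{0, u} (α := F)).symm
  exact ⟨Shrink.{0} F, inferInstance, inferInstance, C.map (e : F →* _),
    frobCompl_map e hC, ⟨f.trans (e.subgroupMap C)⟩⟩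

/-- a non-normal TI subgroup, Hall in its normalizer, with a normal complement is isomorphic
to a Frobenius complement -/
theorem frobCompl_of_normal_complement {X : Type u} [Group X] [Finite X] (H O : Subgroup X)
    [hOn : O.Normal] (hTI : Cfsg.IsTISubset (H : Set X)) (hnn : ¬ H.Normal)
    (hHall : (Nat.card H).Coprime (H.subgroupOf (normalizer (H : Set X))).index)
    (hinf : O ⊓ H = ⊥) (hsup : O ⊔ H = ⊤) :
    ∃ (L : Type) (_ : Group L) (_ : Finite L) (C : Subgroup L),
      Cfsg.IsFrobeniusComplement C ∧ Nonempty (H ≃* C) := by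
  apply exists_frobCompl_type0
  refine (Cfsg.Agent.S4115.result H hTI hHall).2 hnn ?_
  refine ⟨O.subgroupOf (normalizer (H : Set X)), inferInstance, ?_⟩
  apply Subgroup.isComplement'_of_disjoint_and_mul_eq_univ
  · rw [disjoint_iff, eq_bot_iff]
    intro x hx
    obtain ⟨hx1, hx2⟩ := Subgroup.mem_inf.mp hx
    have : (x : X) ∈ O ⊓ H := ⟨Subgroup.mem_subgroupOf.mp hx1, Subgroup.mem_subgroupOf.mp hx2⟩
    rw [hinf, Subgroup.mem_bot] at this
    rw [Subgroup.mem_bot]
    exact Subtype.ext this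
  · rw [Set.eq_univ_iff_forall]
    intro g
    have hg : (g : X) ∈ O ⊔ H := by rw [hsup]; exact Subgroup.mem_top _
    rw [← SetLike.mem_coe, Subgroup.normal_mul] at hg
    obtain ⟨o, ho, h, hh, hoh⟩ := Set.mem_mul.mp hg
    have hhN : h ∈ normalizer (H : Set X) := le_normalizer hh
    have hoN : o ∈ normalizer (H : Set X) := by
      have : o = g * h⁻¹ := by rw [← hoh]; group
      rw [this]
      exact Subgroup.mul_mem _ g.2 (Subgroup.inv_mem _ hhN)
    refine Set.mem_mul.mpr ⟨⟨o, hoN⟩, ?_, ⟨h, hhN⟩, ?_, ?_⟩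
    · exact Subgroup.mem_subgroupOf.mpr ho
    · exact Subgroup.mem_subgroupOf.mpr hh
    · exact Subtype.ext hoh

/-- **`H` is isomorphic to a Frobenius complement** -/
theorem exists_frobCompl {G : Type u} [Group G] [Finite G] {H : Subgroup G}
    (hTI : Cfsg.IsTISubset (H : Set G)) (hnn : ¬ H.Normal)
    (hHall : (Nat.card H).Coprime (H.subgroupOf (normalizer (H : Set G))).index)
    (hsep : PiSep H) :
    ∃ (L : Type) (_ : Group L) (_ : Finite L) (C : Subgroup L),
      Cfsg.IsFrobeniusComplement C ∧ Nonempty (H ≃* C) := by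
  classical
  set O := Cfsg.pPrimeCore (Nat.card H) G with hO
  haveI hOn : O.Normal := Cfsg.Agent.Lib.H22.pPrimeCore_normal (Nat.card H)
  set X := O ⊔ H with hX
  have hHX : H ≤ X := le_sup_right
  have hOX : O ≤ X := le_sup_left
  have hTI' : Cfsg.IsTISubset ((H.subgroupOf X : Subgroup X) : Set X) := by
    intro g hg x hx hgx
    have hg' : (g : G) ∉ normalizer (H : Set G) := by
      intro hgN
      apply hg
      rw [Subgroup.mem_normalizer_iff]
      intro h
      rw [Subgroup.mem_subgroupOf, Subgroup.mem_subgroupOf]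
      have := (Subgroup.mem_normalizer_iff.mp hgN) (h : G)
      simpa using this
    have h1 := hTI (g : G) hg' (x : G) (Subgroup.mem_subgroupOf.mp hx)
      (by simpa using Subgroup.mem_subgroupOf.mp hgx)
    exact Subtype.ext h1
  have hcard : Nat.card (H.subgroupOf X) = Nat.card H :=
    Nat.card_congr (Subgroup.subgroupOfEquivOfLe hHX).toEquiv
  have hHall' : (Nat.card (H.subgroupOf X)).Coprime
      ((H.subgroupOf X).subgroupOf (normalizer ((H.subgroupOf X : Subgroup X) : Set X))).index := by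
    rw [hcard]
    refine Nat.Coprime.coprime_dvd_right ?_ (coprime_index hTI hHall)
    have h1 : ((H.subgroupOf X).subgroupOf
        (normalizer ((H.subgroupOf X : Subgroup X) : Set X))).index ∣ (H.subgroupOf X).index :=
      Dvd.intro _ (Subgroup.relIndex_mul_index (le_normalizer))
    have h2 : (H.subgroupOf X).index ∣ H.index := Dvd.intro _ (Subgroup.relIndex_mul_index hHX)
    exact h1.trans h2
  have hnn' : ¬ (H.subgroupOf X).Normal := by
    intro hn
    apply hnn
    rw [← Subgroup.normalizer_eq_top_iff, eq_top_iff,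
      ← core_sup_normalizer_eq_top hTI hHall hsep, ← hO]
    refine sup_le ?_ le_rfl
    intro o ho
    have key : ∀ o ∈ O, ∀ h ∈ H, o * h * o⁻¹ ∈ H := by
      intro o ho h hh
      have := hn.conj_mem ⟨h, hHX hh⟩ (Subgroup.mem_subgroupOf.mpr hh) ⟨o, hOX ho⟩
      simpa using Subgroup.mem_subgroupOf.mp this
    rw [Subgroup.mem_normalizer_iff]
    intro h
    refine ⟨key o ho h, fun hh => ?_⟩
    have := key o⁻¹ (O.inv_mem ho) _ hh
    simpa [mul_assoc] using this
  haveI hOXn : (O.subgroupOf X).Normal := inferInstance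
  have hinf : O.subgroupOf X ⊓ H.subgroupOf X = ⊥ := by
    rw [eq_bot_iff]
    intro x hx
    obtain ⟨hx1, hx2⟩ := Subgroup.mem_inf.mp hx
    have : (x : G) ∈ O ⊓ H := ⟨Subgroup.mem_subgroupOf.mp hx1, Subgroup.mem_subgroupOf.mp hx2⟩
    rw [core_inf_eq_bot, Subgroup.mem_bot] at this
    rw [Subgroup.mem_bot]
    exact Subtype.ext this
  have hsup : O.subgroupOf X ⊔ H.subgroupOf X = ⊤ := by
    exact codisjoint_iff.mp (Subgroup.codisjoint_subgroupOf_sup O H)
  obtain ⟨L, i1, i2, C, hC, ⟨f⟩⟩ :=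
    frobCompl_of_normal_complement (H.subgroupOf X) (O.subgroupOf X) hTI' hnn' hHall' hinf hsup
  exact ⟨L, i1, i2, C, hC, ⟨(Subgroup.subgroupOfEquivOfLe hHX).symm.trans f⟩⟩

end Cfsg.Agent.Lib.H5.TIH
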