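import Mathlib
import Cfsg.Agent.Lib.H5.TIH.C
import Cfsg.Agent.S3359

/-!
# TI Hall subgroups of `π`-separable groups, part D

`SL₂(5)` is not solvable; a non-solvable `H` contains `SL₂(5)`.
-/

set_option autoImplicit false

namespace Cfsg.Agent.Lib.H5.TIH

open Subgroup
open scoped commutatorElement

universe u

/-- the subgroup generated by two commutators of its own elements is not solvable -/
theorem not_isSolvable_of_comm_pair {G : Type*} [Group G] (x y a b c d : G) (hx : x ≠ 1)
    (ha : a ∈ Subgroup.closure ({x, y} : Set G)) (hb : b ∈ Subgroup.closure ({x, y} : Set G))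
    (hc : c ∈ Subgroup.closure ({x, y} : Set G)) (hd : d ∈ Subgroup.closure ({x, y} : Set G))
    (hxe : x = ⁅a, b⁆) (hye : y = ⁅c, d⁆) : ¬ Group.IsSolvable G := by
  have key : ∀ n : ℕ, Subgroup.closure ({x, y} : Set G) ≤ derivedSeries G n := by
    intro n
    induction n with
    | zero => rw [derivedSeries_zero]; exact le_top
    | succ n ih =>
      rw [derivedSeries_succ, Subgroup.closure_le]
      intro z hz
      rcases hz with hz | hz
      · have h := Subgroup.commutator_mem_commutator (ih ha) (ih hb)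
        rw [← hxe] at h
        rw [hz]
        exact h
      · have h := Subgroup.commutator_mem_commutator (ih hc) (ih hd)
        rw [← hye] at h
        rw [Set.mem_singleton_iff] at hz
        rw [hz]
        exact h
  exact not_isSolvable_of_mem_derivedSeries hx
    (fun n => key n (Subgroup.subset_closure (by simp)))

abbrev SL25 := Matrix.SpecialLinearGroup (Fin 2) (ZMod 5)

def tU : SL25 := ⟨!![1, 1; 0, 1], by decide⟩
def tL : SL25 := ⟨!![1, 0; 1, 1], by decide⟩
def dg : SL25 := ⟨!![2, 0; 0, 3], by decide⟩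

theorem dg_eq : dg = tU ^ 2 * tL ^ 2 * tU ^ 2 * (tU * tL⁻¹ * tU)⁻¹ := by decide

theorem tU_eq : tU = ⁅dg, tU ^ 2⁆ := by decide

theorem tL_eq : tL = ⁅dg⁻¹, tL ^ 2⁆ := by decide

/-- **`SL₂(5)` is not solvable** -/
theorem not_isSolvable_SL25 : ¬ Group.IsSolvable SL25 := by
  have hU : tU ∈ Subgroup.closure ({tU, tL} : Set SL25) := Subgroup.subset_closure (by simp)
  have hL : tL ∈ Subgroup.closure ({tU, tL} : Set SL25) := Subgroup.subset_closure (by simp)
  have hd : dg ∈ Subgroup.closure ({tU, tL} : Set SL25) := by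
    rw [dg_eq]
    exact Subgroup.mul_mem _ (Subgroup.mul_mem _ (Subgroup.mul_mem _ (Subgroup.pow_mem _ hU 2)
      (Subgroup.pow_mem _ hL 2)) (Subgroup.pow_mem _ hU 2))
      (Subgroup.inv_mem _ (Subgroup.mul_mem _ (Subgroup.mul_mem _ hU (Subgroup.inv_mem _ hL)) hU))
  exact not_isSolvable_of_comm_pair tU tL dg (tU ^ 2) dg⁻¹ (tL ^ 2) (by decide) hd
    (Subgroup.pow_mem _ hU 2) (Subgroup.inv_mem _ hd) (Subgroup.pow_mem _ hL 2) tU_eq tL_eq

/-- **a non-solvable `H` contains `SL₂(5)`** -/
theorem exists_SL25_of_not_isSolvable {G : Type u} [Group G] [Finite G] {H : Subgroup G}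
    (hTI : Cfsg.IsTISubset (H : Set G)) (hnn : ¬ H.Normal)
    (hHall : (Nat.card H).Coprime (H.subgroupOf (normalizer (H : Set G))).index)
    (hsep : PiSep H) (hns : ¬ Group.IsSolvable H) :
    ∃ K : Subgroup G, K ≤ H ∧
      Nonempty (K ≃* Matrix.SpecialLinearGroup (Fin 2) (ZMod 5)) := by
  obtain ⟨G₀, _, _, S, M, _, _, _, ⟨e⟩, _, _⟩ :=
    Cfsg.Agent.S3359.result (G := ↥H) hns (exists_frobCompl hTI hnn hHall hsep)
  exact ⟨S.map H.subtype, Subgroup.map_subtype_le S,
    ⟨(S.equivMapOfInjective H.subtype H.subtype_injective).symm.trans e⟩⟩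

end Cfsg.Agent.Lib.H5.TIH
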