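import Mathlib
import Cfsg.Agent.Lib.H16.AutIndexTwo
import Cfsg.Agent.Lib.H5.AutQ8

/-!
# TI Hall subgroups of `π`-separable groups, part E

Coprime automorphism groups of cyclic and generalized quaternion groups are abelian.
-/

set_option autoImplicit false

namespace Cfsg.Agent.Lib.H5.TIH

open Subgroup
open scoped commutatorElement

/-- commutativity in `MulAut` of a cyclic group -/
theorem mulAut_comm_of_isCyclic {P : Type*} [Group P] [IsCyclic P] (α β : MulAut P) :
    α * β = β * α := by
  apply (IsCyclic.mulAutMulEquiv P).injective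
  rw [map_mul, map_mul, mul_comm]

/-- the automorphism group of a generalized quaternion group of order at least 16 is a 2-group -/
theorem isPGroup_mulAut_quaternion (n : ℕ) (hn : 2 ≤ n) :
    IsPGroup 2 (MulAut (QuaternionGroup (2 ^ n))) := by
  haveI : NeZero (2 ^ n) := ⟨by positivity⟩
  haveI : NeZero (2 * 2 ^ n) := ⟨by positivity⟩
  have h2 : IsPGroup 2 (QuaternionGroup (2 ^ n)) :=
    IsPGroup.of_card (n := n + 2) (by rw [Nat.card_eq_fintype_card, QuaternionGroup.card]; ring)
  apply Cfsg.Agent.Lib.H16.isPGroup_mulAut_of_cyclic_index_two h2 (QuaternionGroup.a 1)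
  · rw [Nat.card_eq_fintype_card, QuaternionGroup.card, QuaternionGroup.orderOf_a_one]; ring
  · intro g hg
    rcases g with i | i
    · exfalso
      apply hg
      rw [Subgroup.mem_zpowers_iff]
      refine ⟨(i.val : ℤ), ?_⟩
      rw [zpow_natCast, QuaternionGroup.a_one_pow, ZMod.natCast_zmod_val]
    · rw [QuaternionGroup.orderOf_xa, QuaternionGroup.orderOf_a_one]
      have : 2 ^ 2 ≤ 2 ^ n := Nat.pow_le_pow_right (by norm_num) hn
      omega

/-- a finite group of order `1` or `3` is commutative -/
theorem comm_of_card_dvd_three {B : Type*} [Group B] [Finite B] (h : Nat.card B ∣ 3)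
    (x y : B) : x * y = y * x := by
  rcases (Nat.dvd_prime Nat.prime_three).mp h with h1 | h3
  · haveI : Subsingleton B := (Nat.card_eq_one_iff_unique.mp h1).1
    exact Subsingleton.elim _ _
  · haveI : Fact (Nat.Prime 3) := ⟨Nat.prime_three⟩
    haveI : IsCyclic B := isCyclic_of_prime_card h3
    obtain ⟨g, hg⟩ := IsCyclic.exists_generator (α := B)
    obtain ⟨k, rfl⟩ := Subgroup.mem_zpowers_iff.mp (hg x)
    obtain ⟨l, rfl⟩ := Subgroup.mem_zpowers_iff.mp (hg y)
    exact zpow_mul_comm g k l

/-- **a group acting coprimely on a cyclic or generalized quaternion group induces an abelian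
group of automorphisms** -/
theorem commutator_le_centralizer_of_cyclic_or_quat {G : Type*} [Group G] (P A : Subgroup G)
    [Finite P] [Finite A]
    (hA : A ≤ normalizer (P : Set G)) (hcop : (Nat.card A).Coprime (Nat.card P))
    (hP : IsCyclic P ∨ ∃ n : ℕ, Nonempty (P ≃* QuaternionGroup (2 ^ n))) :
    ⁅A, A⁆ ≤ centralizer (P : Set G) := by
  classical
  set ψ : A →* MulAut P := P.normalizerMonoidHom.comp (Subgroup.inclusion hA) with hψ
  have hcomm : ∀ a b : A, ψ a * ψ b = ψ b * ψ a := by
    have hcyc : IsCyclic P → ∀ a b : A, ψ a * ψ b = ψ b * ψ a := by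
      intro hc a b
      exact mulAut_comm_of_isCyclic _ _
    rcases hP with hc | ⟨n, ⟨e⟩⟩
    · exact hcyc hc
    · haveI : NeZero (2 ^ n) := ⟨by positivity⟩
      have hcardP : Nat.card P = 4 * 2 ^ n := by
        rw [Nat.card_congr e.toEquiv, Nat.card_eq_fintype_card, QuaternionGroup.card]
      have hA2 : (Nat.card A).Coprime 2 :=
        Nat.Coprime.coprime_dvd_right (by rw [hcardP]; exact Dvd.intro (2 * 2 ^ n) (by ring)) hcop
      rcases Nat.lt_or_ge n 2 with hn | hn
      · interval_cases n
        · -- cyclic of order 4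
          haveI : IsCyclic (QuaternionGroup (2 ^ 0)) :=
            QuaternionGroup.quaternionGroup_one_isCyclic
          exact hcyc (isCyclic_of_surjective e.symm e.symm.surjective)
        · -- quaternion of order 8
          have h24 : Nat.card (MulAut P) ∣ 24 :=
            Cfsg.Agent.Lib.H5.AutQ8.card_mulAut_dvd_of_equiv e
          haveI : Finite (MulAut P) := Nat.finite_of_card_ne_zero (by
            intro h0
            rw [h0] at h24
            norm_num at h24)
          have h1 : Nat.card ψ.range ∣ 24 := (Subgroup.card_subgroup_dvd_card _).trans h24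
          have h2 : Nat.card ψ.range ∣ Nat.card A := Subgroup.card_range_dvd ψ
          have h3 : (Nat.card ψ.range).Coprime 8 := by
            have : (Nat.card A).Coprime 8 := by
              rw [hcardP] at hcop
              exact hcop
            exact Nat.Coprime.coprime_dvd_left h2 this
          have h4 : Nat.card ψ.range ∣ 3 := by
            have : Nat.card ψ.range ∣ 8 * 3 := h1
            exact h3.dvd_of_dvd_mul_left this
          intro a b
          have := comm_of_card_dvd_three h4 ⟨ψ a, a, rfl⟩ ⟨ψ b, b, rfl⟩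
          exact congrArg Subtype.val this
      · -- order at least 16: trivial action
        have hpg : IsPGroup 2 (MulAut P) :=
          (isPGroup_mulAut_quaternion n hn).of_injective (MulAut.congr e).toMonoidHom
            (MulAut.congr e).injective
        have htriv : ∀ a : A, ψ a = 1 := by
          intro a
          obtain ⟨k, hk⟩ := hpg (ψ a)
          have h1 : orderOf (ψ a) ∣ 2 ^ k := orderOf_dvd_of_pow_eq_one hk
          have h2 : orderOf (ψ a) ∣ Nat.card A :=
            (orderOf_map_dvd ψ a).trans (orderOf_dvd_natCard a)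
          have h3 : orderOf (ψ a) ∣ Nat.gcd (Nat.card A) (2 ^ k) := Nat.dvd_gcd h2 h1
          rw [Nat.Coprime.pow_right k hA2, Nat.dvd_one] at h3
          exact orderOf_eq_one_iff.mp h3
        intro a b
        rw [htriv a, htriv b]
  rw [Subgroup.commutator_le]
  intro a ha b hb
  have h1 : ψ ⁅(⟨a, ha⟩ : A), ⟨b, hb⟩⁆ = 1 := by
    rw [map_commutatorElement, commutatorElement_def, hcomm]
    group
  have h2 : Subgroup.inclusion hA ⁅(⟨a, ha⟩ : A), ⟨b, hb⟩⁆ ∈ P.normalizerMonoidHom.ker := h1
  rw [Subgroup.normalizerMonoidHom_ker, Subgroup.mem_subgroupOf] at h2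
  exact h2

end Cfsg.Agent.Lib.H5.TIH
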