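import Mathlib
import Cfsg.Agent.Lib.H5.TIH.D
import Cfsg.Agent.Lib.H5.TIH.E
import Cfsg.Agent.Lib.H7.CoprimeFactor
import Cfsg.Agent.Lib.H1.CoprimeSylow
import Cfsg.Agent.Lib.H4.FC.Basic

/-!
# TI Hall subgroups of `π`-separable groups, part F

A complement `Q` of `H` in `N_G(H)`: `[Q,Q]` centralizes `H`, `C_Q(H) ≤ O_{π'}(G)`, and
solvability of `G`.
-/

set_option autoImplicit false

namespace Cfsg.Agent.Lib.H5.TIH

open Subgroup Pointwise
open scoped commutatorElement

universe u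

variable {G : Type u} [Group G] [Finite G] {H Q : Subgroup G}

/-- `Q` is a complement of `H` in `N_G(H)` -/
theorem compl_isComplement' (hQ : Q ≤ normalizer (H : Set G)) (hQH : Q ⊓ H = ⊥)
    (hQH' : Q ⊔ H = normalizer (H : Set G)) :
    IsComplement' (H.subgroupOf (normalizer (H : Set G)))
      (Q.subgroupOf (normalizer (H : Set G))) := by
  apply Cfsg.Agent.Lib.H1.isComplement'_subgroupOf_of_le_sup' hQ
  · rw [disjoint_iff, inf_comm]; exact hQH
  · exact le_normalizer
  · exact hQ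
  · rw [sup_comm, hQH']

theorem compl_card_coprime
    (hHall : (Nat.card H).Coprime (H.subgroupOf (normalizer (H : Set G))).index)
    (hQ : Q ≤ normalizer (H : Set G)) (hQH : Q ⊓ H = ⊥)
    (hQH' : Q ⊔ H = normalizer (H : Set G)) : (Nat.card Q).Coprime (Nat.card H) := by
  have h := (compl_isComplement' hQ hQH hQH').symm.index_eq_card
  rw [h, Nat.card_congr (Subgroup.subgroupOfEquivOfLe hQ).toEquiv] at hHall
  exact hHall.symm

/-- Schur–Zassenhaus: a complement exists -/
theorem exists_compl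
    (hHall : (Nat.card H).Coprime (H.subgroupOf (normalizer (H : Set G))).index) :
    ∃ Q : Subgroup G, Q ≤ normalizer (H : Set G) ∧ Q ⊓ H = ⊥ ∧
      Q ⊔ H = normalizer (H : Set G) := by
  haveI : (H.subgroupOf (normalizer (H : Set G))).Normal := Subgroup.normal_in_normalizer
  have hc : (Nat.card (H.subgroupOf (normalizer (H : Set G)))).Coprime
      (H.subgroupOf (normalizer (H : Set G))).index := by
    rw [Nat.card_congr (Subgroup.subgroupOfEquivOfLe le_normalizer).toEquiv]
    exact hHall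
  obtain ⟨Q', hQ'⟩ := Subgroup.exists_right_complement'_of_coprime hc
  refine ⟨Q'.map (normalizer (H : Set G)).subtype, Subgroup.map_subtype_le Q', ?_, ?_⟩
  · rw [eq_bot_iff]
    rintro x ⟨⟨q, hq, rfl⟩, hxH⟩
    have : q ∈ H.subgroupOf (normalizer (H : Set G)) ⊓ Q' :=
      ⟨Subgroup.mem_subgroupOf.mpr hxH, hq⟩
    rw [hQ'.disjoint.eq_bot, Subgroup.mem_bot] at this
    rw [Subgroup.mem_bot, this]
    rfl
  · apply le_antisymm
    · exact sup_le (Subgroup.map_subtype_le Q') le_normalizer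
    · intro n hn
      obtain ⟨h, hh, q, hq, hnq⟩ :=
        Cfsg.Agent.Lib.H1.isComplement'_exists_mul hQ' (⟨n, hn⟩ : normalizer (H : Set G))
      have : n = (h : G) * (q : G) := congrArg Subtype.val hnq
      rw [this]
      exact Subgroup.mul_mem _ (Subgroup.mem_sup_right (Subgroup.mem_subgroupOf.mp hh))
        (Subgroup.mem_sup_left ⟨q, hq, rfl⟩)

/-- a subgroup of `H` containing a Sylow `p`-subgroup of `H` for every prime `p` is `H` -/
theorem eq_of_forall_sylow_le {D : Subgroup G} (hDH : D ≤ H)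
    (h : ∀ p : ℕ, p.Prime → ∃ P : Subgroup G, Cfsg.Agent.Lib.H1.IsSylowOf p H P ∧ P ≤ D) :
    D = H := by
  apply Subgroup.eq_of_le_of_card_ge hDH
  apply Nat.le_of_dvd Nat.card_pos
  rw [← Nat.factorization_prime_le_iff_dvd Nat.card_pos.ne' Nat.card_pos.ne']
  intro p hp
  obtain ⟨P, hP, hPD⟩ := h p hp
  rw [← hp.pow_dvd_iff_le_factorization Nat.card_pos.ne', ← hP.card_eq]
  exact Subgroup.card_dvd_of_le hPD

/-- **`[Q,Q]` centralizes `H`** -/
theorem comm_compl_le_centralizer (hTI : Cfsg.IsTISubset (H : Set G)) (hnn : ¬ H.Normal)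
    (hHall : (Nat.card H).Coprime (H.subgroupOf (normalizer (H : Set G))).index)
    (hsep : PiSep H) (hHs : Group.IsSolvable H)
    (hQ : Q ≤ normalizer (H : Set G)) (hQH : Q ⊓ H = ⊥)
    (hQH' : Q ⊔ H = normalizer (H : Set G)) : ⁅Q, Q⁆ ≤ centralizer (H : Set G) := by
  obtain ⟨L, _, _, C, hC, ⟨e⟩⟩ := exists_frobCompl hTI hnn hHall hsep
  have hAb : Cfsg.Agent.Lib.H4.NF.AbCyc ↥H := Cfsg.Agent.Lib.H4.FC.abCyc_of_iso hC e
  have hcop : (Nat.card Q).Coprime (Nat.card H) := compl_card_coprime hHall hQ hQH hQH'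
  have hCA : Cfsg.Agent.Lib.H1.CoprimeAction Q H := ⟨hQ, hcop, Or.inr hHs⟩
  rw [Subgroup.le_centralizer_iff]
  have hD : H ⊓ centralizer ((⁅Q, Q⁆ : Subgroup G) : Set G) = H := by
    apply eq_of_forall_sylow_le inf_le_left
    intro p hp
    haveI : Fact p.Prime := ⟨hp⟩
    obtain ⟨P, hP, hQP⟩ := Cfsg.Agent.Lib.H1.coprime_exists_invariant_sylow hCA p
    refine ⟨P, hP, le_inf hP.le ?_⟩
    rw [Subgroup.le_centralizer_iff]
    have hAbP : Cfsg.Agent.Lib.H4.NF.AbCyc ↥P :=
      hAb.of_injective (Subgroup.inclusion hP.le) (Subgroup.inclusion_injective hP.le)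
    apply commutator_le_centralizer_of_cyclic_or_quat P Q hQP
    · exact Nat.Coprime.coprime_dvd_right (Subgroup.card_dvd_of_le hP.le) hcop
    · rcases Cfsg.Agent.Lib.H4.NF.cyclic_or_quat hAbP hP.isPGroup with hc | ⟨_, hq⟩
      · exact Or.inl hc
      · exact Or.inr hq
  exact inf_eq_left.mp hD

/-- an element normalizing two subgroups normalizes their join -/
theorem mem_normalizer_sup {A B : Subgroup G} {g : G} (hA : g ∈ normalizer (A : Set G))
    (hB : g ∈ normalizer (B : Set G)) : g ∈ normalizer ((A ⊔ B : Subgroup G) : Set G) := by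
  rw [← Cfsg.Agent.Lib.H1.conj_smul_eq_self_iff_mem_normalizer] at hA hB ⊢
  rw [Subgroup.smul_sup, hA, hB]

/-- **`C_Q(H) ≤ O_{π'}(G)`** -/
theorem compl_inf_centralizer_le_core (hTI : Cfsg.IsTISubset (H : Set G))
    (hHall : (Nat.card H).Coprime (H.subgroupOf (normalizer (H : Set G))).index)
    (hsep : PiSep H)
    (hQ : Q ≤ normalizer (H : Set G)) (hQH : Q ⊓ H = ⊥)
    (hQH' : Q ⊔ H = normalizer (H : Set G)) :
    Q ⊓ centralizer (H : Set G) ≤ Cfsg.pPrimeCore (Nat.card H) G := by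
  set O := Cfsg.pPrimeCore (Nat.card H) G with hO
  haveI hOn : O.Normal := Cfsg.Agent.Lib.H22.pPrimeCore_normal (Nat.card H)
  have hcop : (Nat.card Q).Coprime (Nat.card H) := compl_card_coprime hHall hQ hQH hQH'
  set Q₀ := Q ⊓ centralizer (H : Set G) with hQ₀
  -- `H` and `Q` normalize `Q₀`
  have hHn : H ≤ normalizer (Q₀ : Set G) :=
    (Subgroup.le_centralizer_iff.mp (inf_le_right : Q₀ ≤ centralizer (H : Set G))).trans
      (Subgroup.centralizer_le_normalizer _)
  have hQn : Q ≤ normalizer (Q₀ : Set G) := by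
    have key : ∀ q ∈ Q, ∀ x ∈ Q₀, q * x * q⁻¹ ∈ Q₀ := by
      intro q hq x hx
      refine Subgroup.mem_inf.mpr ⟨Q.mul_mem (Q.mul_mem hq hx.1) (Q.inv_mem hq), ?_⟩
      rw [Subgroup.mem_centralizer_iff]
      intro h hh
      have hqh : q⁻¹ * h * q ∈ H := by
        have := (Subgroup.mem_normalizer_iff.mp (Subgroup.inv_mem _ (hQ hq)) h).mp hh
        simpa using this
      have := (Subgroup.mem_centralizer_iff.mp hx.2) _ hqh
      calc h * (q * x * q⁻¹) = q * ((q⁻¹ * h * q) * x) * q⁻¹ := by group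
        _ = q * (x * (q⁻¹ * h * q)) * q⁻¹ := by rw [this]
        _ = q * x * q⁻¹ * h := by group
    intro q hq
    rw [Subgroup.mem_normalizer_iff]
    intro x
    refine ⟨key q hq x, fun hx => ?_⟩
    have := key q⁻¹ (Q.inv_mem hq) _ hx
    simpa [mul_assoc] using this
  have hMn : (O ⊔ Q₀).Normal := by
    rw [← Subgroup.normalizer_eq_top_iff, eq_top_iff,
      ← core_sup_normalizer_eq_top hTI hHall hsep, ← hO, ← hQH']
    refine sup_le (le_sup_left.trans le_normalizer) (sup_le ?_ ?_)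
    · intro q hq
      exact mem_normalizer_sup (by rw [Subgroup.normalizer_eq_top]; exact Subgroup.mem_top q)
        (hQn hq)
    · intro h hh
      exact mem_normalizer_sup (by rw [Subgroup.normalizer_eq_top]; exact Subgroup.mem_top h)
        (hHn hh)
  have hMc : (Nat.card (O ⊔ Q₀ : Subgroup G)).Coprime (Nat.card H) := by
    have h1 : Nat.card (Q₀ ⊔ O : Subgroup G) ∣ Nat.card Q₀ * Nat.card O :=
      Cfsg.Agent.Lib.H22.card_sup_dvd_mul Q₀ O
    rw [sup_comm] at h1
    refine Nat.Coprime.coprime_dvd_left h1 (Nat.Coprime.mul_left ?_ ?_)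
    · exact Nat.Coprime.coprime_dvd_left (Subgroup.card_dvd_of_le inf_le_left) hcop
    · exact Cfsg.Agent.Lib.H22.card_pPrimeCore_coprime (Nat.card H)
  exact le_sup_right.trans (Cfsg.Agent.Lib.H22.le_pPrimeCore (Nat.card H) _ hMn hMc)

omit [Finite G] in
/-- a subgroup whose commutator subgroup lies in a solvable subgroup is solvable -/
theorem isSolvable_of_commutator_le {K M : Subgroup G} (h : ⁅K, K⁆ ≤ M)
    (hM : Group.IsSolvable M) : Group.IsSolvable K := by
  haveI : Group.IsSolvable ↥(M ⊓ K) :=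
    solvable_of_solvable_injective (f := Subgroup.inclusion (inf_le_left : M ⊓ K ≤ M))
      (Subgroup.inclusion_injective _)
  apply solvable_of_ker_le_range (Subgroup.inclusion (inf_le_right : M ⊓ K ≤ K))
    (Abelianization.of : K →* Abelianization K)
  intro x hx
  rw [Abelianization.ker_of] at hx
  have hx' : (x : G) ∈ ⁅K, K⁆ := by
    rw [← Subgroup.map_subtype_commutator]
    exact ⟨x, hx, rfl⟩
  exact ⟨⟨x, h hx', x.2⟩, rfl⟩

/-- **if `O_{π'}(G)` and `H` are solvable then so is `G`** -/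
theorem isSolvable_of_core_of_isSolvable (hTI : Cfsg.IsTISubset (H : Set G)) (hnn : ¬ H.Normal)
    (hHall : (Nat.card H).Coprime (H.subgroupOf (normalizer (H : Set G))).index)
    (hsep : PiSep H) (hOs : Group.IsSolvable (Cfsg.pPrimeCore (Nat.card H) G))
    (hHs : Group.IsSolvable H) : Group.IsSolvable G := by
  obtain ⟨Q, hQ, hQH, hQH'⟩ := exists_compl hHall
  have h1 := comm_compl_le_centralizer hTI hnn hHall hsep hHs hQ hQH hQH'
  have h2 := compl_inf_centralizer_le_core hTI hHall hsep hQ hQH hQH'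
  have hQ₀s : Group.IsSolvable ↥(Q ⊓ centralizer (H : Set G)) :=
    solvable_of_solvable_injective (f := Subgroup.inclusion h2) (Subgroup.inclusion_injective h2)
  have hQs : Group.IsSolvable Q :=
    isSolvable_of_commutator_le (le_inf (Subgroup.commutator_le_self Q) h1) hQ₀s
  have hNs : Group.IsSolvable ↥(H ⊔ Q) :=
    Cfsg.Agent.Lib.H7.isSolvable_sup_of_le_normalizer hQ hHs hQs
  rw [sup_comm, hQH'] at hNs
  have hGs : Group.IsSolvable ↥(Cfsg.pPrimeCore (Nat.card H) G ⊔ normalizer (H : Set G)) := by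
    apply Cfsg.Agent.Lib.H7.isSolvable_sup_of_le_normalizer _ hOs hNs
    haveI := Cfsg.Agent.Lib.H22.pPrimeCore_normal (G := G) (Nat.card H)
    exact le_top.trans_eq
      (Subgroup.normalizer_eq_top (H := Cfsg.pPrimeCore (Nat.card H) G)).symm
  rw [core_sup_normalizer_eq_top hTI hHall hsep] at hGs
  exact Group.isSolvable_of_surjective (f := (⊤ : Subgroup G).subtype)
    (fun g => ⟨⟨g, Subgroup.mem_top g⟩, rfl⟩)

end Cfsg.Agent.Lib.H5.TIH
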