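import Mathlib
import Cfsg.Agent.Lib.H1.CoprimeSylow
import Cfsg.Agent.Lib.H1.CoprimeAbelian
import Cfsg.Agent.Lib.H1.PCore
import Cfsg.Agent.Lib.H5.TIH.E

/-!
# TI Hall subgroups of `π`-separable groups, part G

Coprime action on a `Z`-group `H` (all Sylow subgroups cyclic): `|[H,Q]|` and `|C_H(Q)|` are
coprime.
-/

set_option autoImplicit false

namespace Cfsg.Agent.Lib.H5.TIH

open Subgroup Pointwise
open Cfsg.Agent.Lib.H1
open scoped commutatorElement

universe u

variable {G : Type u} [Group G] [Finite G] {H Q : Subgroup G} {p : ℕ} [Fact p.Prime]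

/-- a coprime operator group fixing a nonidentity element of a cyclic `p`-group centralizes it -/
theorem cyclic_le_centralizer_of_fixed {P : Subgroup G} (hP : IsPGroup p P) [IsCyclic P]
    (hQP : Q ≤ normalizer (P : Set G)) (hcop : (Nat.card Q).Coprime (Nat.card P)) {x : G}
    (hxP : x ∈ P) (hxQ : x ∈ centralizer (Q : Set G)) (hx1 : x ≠ 1) :
    P ≤ centralizer (Q : Set G) := by
  rcases IsPGroup.commutator_eq_bot_or_commutator_eq_self hP hQP hcop.symm with h | h
  · rw [Subgroup.le_centralizer_iff]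
    exact Subgroup.commutator_eq_bot_iff_le_centralizer.mp h
  · exfalso
    haveI : IsMulCommutative P := IsCyclic.isMulCommutative
    have h1 := coprime_abelian_centralizer_inf_commutator hQP hcop
    rw [Subgroup.commutator_comm, h] at h1
    have : x ∈ (P ⊓ centralizer (Q : Set G)) ⊓ P := ⟨⟨hxP, hxQ⟩, hxP⟩
    rw [h1, Subgroup.mem_bot] at this
    exact hx1 this

/-- if `p` divides `|C_H(Q)|` then `Q` centralizes every `Q`-invariant Sylow `p`-subgroup of the
`Z`-group `H` -/
theorem invariant_sylow_le_centralizer [IsZGroup ↥H] (hCA : CoprimeAction Q H)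
    (hp : p ∣ Nat.card (H ⊓ centralizer (Q : Set G) : Subgroup G)) {P : Subgroup G}
    (hP : IsSylowOf p H P) (hQP : Q ≤ normalizer (P : Set G)) :
    P ≤ centralizer (Q : Set G) := by
  have hcycH : ∀ P : Subgroup G, P ≤ H → IsPGroup p P → IsCyclic P := by
    intro P hPH hPp
    have h1 : IsPGroup p (P.subgroupOf H) :=
      hPp.of_equiv (Subgroup.subgroupOfEquivOfLe hPH).symm
    have h2 : IsCyclic (P.subgroupOf H) := IsPGroup.isCyclic_of_isZGroup h1
    exact isCyclic_of_surjective _ (Subgroup.subgroupOfEquivOfLe hPH).surjective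
  obtain ⟨x, hx⟩ := exists_prime_orderOf_dvd_card' p hp
  have hxo : orderOf (x : G) = p := by rw [Subgroup.orderOf_coe]; exact hx
  have hx1 : (x : G) ≠ 1 := by
    intro h
    rw [h, orderOf_one] at hxo
    exact (Fact.out : p.Prime).one_lt.ne hxo
  have hxH : (x : G) ∈ H := x.2.1
  have hxC : (x : G) ∈ centralizer (Q : Set G) := x.2.2
  set X := zpowers (x : G) with hX
  have hXH : X ≤ H := by rw [hX, Subgroup.zpowers_le]; exact hxH
  have hXp : IsPGroup p X := IsPGroup.of_card (n := 1) (by rw [Nat.card_zpowers, hxo, pow_one])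
  have hXC : X ≤ centralizer (Q : Set G) := by rw [hX, Subgroup.zpowers_le]; exact hxC
  have hQX : Q ≤ normalizer (X : Set G) :=
    (Subgroup.le_centralizer_iff.mp hXC).trans (Subgroup.centralizer_le_normalizer _)
  obtain ⟨P₁, hP₁, hXP₁, hQP₁⟩ := coprime_invariant_psubgroup_le_sylow hCA hXH hXp hQX
  haveI : IsCyclic P₁ := hcycH P₁ hP₁.le hP₁.isPGroup
  have hcop1 : (Nat.card Q).Coprime (Nat.card P₁) :=
    Nat.Coprime.coprime_dvd_right (Subgroup.card_dvd_of_le hP₁.le) hCA.coprime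
  have hP₁C : P₁ ≤ centralizer (Q : Set G) :=
    cyclic_le_centralizer_of_fixed hP₁.isPGroup hQP₁ hcop1
      (hXP₁ (Subgroup.mem_zpowers _)) hxC hx1
  obtain ⟨c, hc, hcP⟩ := coprime_invariant_sylow_conj hCA hP₁ hP hQP₁ hQP
  intro y hy
  rw [← hcP, mem_conj_smul_iff] at hy
  have hcC : c ∈ centralizer (Q : Set G) := hc.2
  have : y = c * (c⁻¹ * y * c) * c⁻¹ := by group
  rw [this]
  exact Subgroup.mul_mem _ (Subgroup.mul_mem _ hcC (hP₁C hy)) (Subgroup.inv_mem _ hcC)

/-- if a Sylow `p`-subgroup `P` of `J` is central in its normalizer, an automorphism of `J`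
fixing `P` pointwise acts trivially modulo the normal `p`-complement -/
theorem aut_mul_inv_mem_ker_transfer {J : Type*} [Group J] [Finite J] (P : Sylow p J)
    (hN : normalizer ((P : Subgroup J) : Set J) ≤ centralizer ((P : Subgroup J) : Set J))
    (φ : MulAut J) (hφ : ∀ y ∈ P, φ y = y) (j : J) :
    φ j * j⁻¹ ∈ (MonoidHom.transferSylow P hN).ker := by
  set τ := MonoidHom.transferSylow P hN with hτ
  have hcompl := MonoidHom.ker_transferSylow_isComplement' P hN
  have hndvd := MonoidHom.not_dvd_card_ker_transferSylow P hN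
  have hp : p.Prime := Fact.out
  have key : ∀ k ∈ τ.ker, φ k ∈ τ.ker := by
    intro k hk
    have h1 : ¬ p ∣ orderOf k := by
      intro h
      apply hndvd
      have : orderOf (⟨k, hk⟩ : τ.ker) ∣ Nat.card τ.ker := orderOf_dvd_natCard _
      rw [Subgroup.orderOf_mk] at this
      exact h.trans this
    have h2 : orderOf (φ k) = orderOf k := MulEquiv.orderOf_eq φ k
    have h3 : orderOf (τ (φ k)) ∣ orderOf k := h2 ▸ orderOf_map_dvd τ (φ k)
    obtain ⟨n, hn⟩ := P.2 (τ (φ k))
    have h4 : orderOf (τ (φ k)) ∣ p ^ n := orderOf_dvd_of_pow_eq_one hn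
    have h5 : (orderOf k).Coprime (p ^ n) :=
      Nat.Coprime.pow_right n ((Nat.Prime.coprime_iff_not_dvd hp).mpr h1).symm
    have h6 : orderOf (τ (φ k)) ∣ Nat.gcd (orderOf k) (p ^ n) := Nat.dvd_gcd h3 h4
    rw [h5, Nat.dvd_one, orderOf_eq_one_iff] at h6
    exact h6
  obtain ⟨k, hk, y, hy, rfl⟩ := isComplement'_exists_mul hcompl j
  have e : φ (k * y) * (k * y)⁻¹ = φ k * k⁻¹ := by
    rw [map_mul, hφ y hy]
    group
  rw [e]
  exact Subgroup.mul_mem _ (key k hk) (Subgroup.inv_mem _ hk)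

/-- a Sylow `p`-subgroup of `J = [J,Q]`, central in its normalizer in `J` and centralized by
`Q`, is trivial -/
theorem sylow_eq_bot_of_normalizer_le_centralizer {J : Subgroup G}
    (hQJ : Q ≤ normalizer (J : Set G)) (hJJ : ⁅J, Q⁆ = J) (P : Sylow p ↥J)
    (hN : normalizer ((P : Subgroup J) : Set J) ≤ centralizer ((P : Subgroup J) : Set J))
    (hfix : ∀ y ∈ P, (y : G) ∈ centralizer (Q : Set G)) : (P : Subgroup J) = ⊥ := by
  set K := (MonoidHom.transferSylow P hN).ker with hK
  have hcompl : IsComplement' K (P : Subgroup J) := MonoidHom.ker_transferSylow_isComplement' P hN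
  have h1 : ⁅J, Q⁆ ≤ K.map J.subtype := by
    rw [Subgroup.commutator_comm, Subgroup.commutator_le]
    intro q hq j hj
    set φ : MulAut ↥J := J.normalizerMonoidHom ⟨q, hQJ hq⟩ with hφ
    have hφfix : ∀ y ∈ P, φ y = y := by
      intro y hy
      apply Subtype.ext
      have h2 := Subgroup.mem_centralizer_iff.mp (hfix y hy) q hq
      change q * (y : G) * q⁻¹ = y
      rw [h2, mul_inv_cancel_right]
    have h3 := aut_mul_inv_mem_ker_transfer P hN φ hφfix ⟨j, hj⟩
    refine ⟨_, h3, ?_⟩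
    change q * j * q⁻¹ * j⁻¹ = ⁅q, j⁆
    rfl
  rw [hJJ] at h1
  have hKtop : K = ⊤ := by
    rw [eq_top_iff]
    intro j _
    obtain ⟨k, hk, hkj⟩ := h1 j.2
    have : k = j := Subtype.ext hkj
    rwa [← this]
  rw [hKtop] at hcompl
  exact Subgroup.isComplement'_top_left.mp hcompl

omit [Finite G] in
/-- the commutator subgroup of a group normalizing a cyclic subgroup centralizes it -/
theorem commutator_le_centralizer_of_isCyclic (P A : Subgroup G) [IsCyclic P]
    (hA : A ≤ normalizer (P : Set G)) : ⁅A, A⁆ ≤ centralizer (P : Set G) := by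
  set ψ : A →* MulAut P := P.normalizerMonoidHom.comp (Subgroup.inclusion hA) with hψ
  rw [Subgroup.commutator_le]
  intro a ha b hb
  have h1 : ψ ⁅(⟨a, ha⟩ : A), ⟨b, hb⟩⁆ = 1 := by
    rw [map_commutatorElement, commutatorElement_def, mulAut_comm_of_isCyclic (ψ ⟨a, ha⟩)]
    group
  have h2 : Subgroup.inclusion hA ⁅(⟨a, ha⟩ : A), ⟨b, hb⟩⁆ ∈ P.normalizerMonoidHom.ker := h1
  rw [Subgroup.normalizerMonoidHom_ker, Subgroup.mem_subgroupOf] at h2
  exact h2

/-- if `J = [J,Q]` is a `Z`-group and `P₀ ≤ J'` is centralized by `Q`, then `J` centralizes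
`P₀` -/
theorem le_centralizer_of_le_commutator {J P₀ : Subgroup G} [IsZGroup ↥J]
    (hJJ : ⁅J, Q⁆ = J) (hP₀ : P₀ ≤ ⁅J, J⁆) (hP₀Q : P₀ ≤ centralizer (Q : Set G)) :
    J ≤ centralizer (P₀ : Set G) := by
  have hcycC : IsCyclic ↥(⁅J, J⁆ : Subgroup G) := by
    have : IsCyclic (commutator ↥J) := IsZGroup.isCyclic_commutator ↥J
    have h : IsCyclic ↥((commutator ↥J).map J.subtype) :=
      isCyclic_of_surjective _
        ((commutator ↥J).equivMapOfInjective J.subtype J.subtype_injective).surjective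
    rwa [Subgroup.map_subtype_commutator] at h
  obtain ⟨g, hg⟩ := IsCyclic.exists_generator (α := ↥(⁅J, J⁆ : Subgroup G))
  have hgen : ∀ c ∈ (⁅J, J⁆ : Subgroup G), ∃ k : ℤ, (g : G) ^ k = c := by
    intro c hc
    obtain ⟨k, hk⟩ := Subgroup.mem_zpowers_iff.mp (hg ⟨c, hc⟩)
    exact ⟨k, by simpa using congrArg Subtype.val hk⟩
  have hJn : J ≤ normalizer (P₀ : Set G) := by
    intro j hj
    apply Subgroup.mem_normalizer_fintype
    intro y hy
    obtain ⟨k, hk⟩ := hgen y (hP₀ hy)
    have hjg : j * (g : G) * j⁻¹ ∈ (⁅J, J⁆ : Subgroup G) :=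
      (Subgroup.mem_normalizer_iff.mp (Subgroup.normalizer_commutator_ge_left J J hj) g).mp g.2
    obtain ⟨m, hm⟩ := hgen _ hjg
    have e : j * y * j⁻¹ = y ^ m := by
      rw [← hk, ← conj_zpow, ← hm, ← zpow_mul, ← zpow_mul, mul_comm]
    rw [SetLike.mem_coe, e]
    exact Subgroup.zpow_mem _ hy m
  have hQn : Q ≤ normalizer (P₀ : Set G) :=
    (Subgroup.le_centralizer_iff.mp hP₀Q).trans (Subgroup.centralizer_le_normalizer _)
  haveI : IsCyclic ↥P₀ :=
    isCyclic_of_injective (Subgroup.inclusion hP₀) (Subgroup.inclusion_injective hP₀)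
  have h := commutator_le_centralizer_of_isCyclic P₀ (J ⊔ Q) (sup_le hJn hQn)
  calc J = ⁅J, Q⁆ := hJJ.symm
    _ ≤ ⁅J ⊔ Q, J ⊔ Q⁆ := Subgroup.commutator_mono le_sup_left le_sup_right
    _ ≤ centralizer (P₀ : Set G) := h

/-- **coprime action on a `Z`-group: `|[H,Q]|` and `|C_H(Q)|` are coprime** -/
theorem coprime_card_commutator_card_centralizer [IsZGroup ↥H] (hCA : CoprimeAction Q H) :
    (Nat.card (⁅H, Q⁆ : Subgroup G)).Coprime
      (Nat.card (H ⊓ centralizer (Q : Set G) : Subgroup G)) := by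
  by_contra hnc
  obtain ⟨p, hp, hpJ, hpD⟩ := Nat.Prime.not_coprime_iff_dvd.mp hnc
  haveI : Fact p.Prime := ⟨hp⟩
  set J := ⁅H, Q⁆ with hJ
  have hJH : J ≤ H := hCA.commutator_le
  have hQJ : Q ≤ normalizer (J : Set G) := Subgroup.normalizer_commutator_ge_right H Q
  have hCAJ : CoprimeAction Q J := hCA.mono hJH hQJ
  have hJJ : ⁅J, Q⁆ = J := coprime_commutator_commutator hCA
  haveI : IsZGroup ↥J :=
    IsZGroup.of_injective (f := Subgroup.inclusion hJH) (Subgroup.inclusion_injective hJH)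
  obtain ⟨P₀, hP₀, hQP₀⟩ := coprime_exists_invariant_sylow hCAJ p
  obtain ⟨P₂, hP₂, hP₀P₂, hQP₂⟩ :=
    coprime_invariant_psubgroup_le_sylow hCA (hP₀.le.trans hJH) hP₀.isPGroup hQP₀
  have hP₂C := invariant_sylow_le_centralizer hCA hpD hP₂ hQP₂
  have hP₀C : P₀ ≤ centralizer (Q : Set G) := hP₀P₂.trans hP₂C
  set P := hP₀.toSylow with hP
  have hfix : ∀ y ∈ P, (y : G) ∈ centralizer (Q : Set G) := by
    intro y hy
    exact hP₀C (Subgroup.mem_subgroupOf.mp hy)
  have hPne : (P : Subgroup J) ≠ ⊥ := by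
    intro h
    have h1 : P₀ = ⊥ := by
      rw [← hP₀.map_toSylow, ← hP, h, Subgroup.map_bot]
    have h2 := hP₀.card_eq
    rw [h1, Subgroup.card_bot] at h2
    have h3 : 1 ≤ (Nat.card J).factorization p :=
      (hp.dvd_iff_one_le_factorization Nat.card_pos.ne').mp hpJ
    have h4 : p ∣ p ^ (Nat.card J).factorization p := dvd_pow_self p (by omega)
    rw [← h2, Nat.dvd_one] at h4
    exact hp.one_lt.ne' h4
  rcases Sylow.normalizer_le_centralizer_or_le_commutator P with hN | hC
  · exact hPne (sylow_eq_bot_of_normalizer_le_centralizer hQJ hJJ P hN hfix)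
  · have hP₀JJ : P₀ ≤ ⁅J, J⁆ := by
      rw [← Subgroup.map_subtype_commutator, ← hP₀.map_toSylow]
      exact Subgroup.map_mono hC
    have hcen := le_centralizer_of_le_commutator hJJ hP₀JJ hP₀C
    have hN : normalizer ((P : Subgroup J) : Set J) ≤ centralizer ((P : Subgroup J) : Set J) := by
      intro x _
      rw [Subgroup.mem_centralizer_iff]
      intro y hy
      apply Subtype.ext
      exact Subgroup.mem_centralizer_iff.mp (hcen x.2) y (Subgroup.mem_subgroupOf.mp hy)
    exact hPne (sylow_eq_bot_of_normalizer_le_centralizer hQJ hJJ P hN hfix)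

end Cfsg.Agent.Lib.H5.TIH
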