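import Mathlib
import Cfsg.Agent.Lib.H5.TIH.F
import Cfsg.Agent.Lib.H5.TIH.G

/-!
# TI Hall subgroups of `π`-separable groups, part H

`C_H(Q)` is a Hall subgroup of `G` with a normal complement (for abelian Sylow 2-subgroups of `H`).
-/

set_option autoImplicit false

namespace Cfsg.Agent.Lib.H5.TIH

open Subgroup Pointwise
open Cfsg.Agent.Lib.H1
open scoped commutatorElement

universe u

variable {G : Type u} [Group G] [Finite G] {H Q : Subgroup G}

/-- `H` is a `Z`-group when its Sylow 2-subgroups are abelian -/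
theorem isZGroup_of_abelian_sylow_two (hTI : Cfsg.IsTISubset (H : Set G)) (hnn : ¬ H.Normal)
    (hHall : (Nat.card H).Coprime (H.subgroupOf (normalizer (H : Set G))).index)
    (hsep : PiSep H) (h2 : ∀ P : Sylow 2 H, IsMulCommutative (P : Subgroup H)) :
    IsZGroup ↥H := by
  obtain ⟨L, _, _, C, hC, ⟨e⟩⟩ := exists_frobCompl hTI hnn hHall hsep
  have hAb : Cfsg.Agent.Lib.H4.NF.AbCyc ↥H := Cfsg.Agent.Lib.H4.FC.abCyc_of_iso hC e
  refine ⟨fun p hp P => ?_⟩
  haveI : Fact p.Prime := ⟨hp⟩
  have hAbP : Cfsg.Agent.Lib.H4.NF.AbCyc ↥(P : Subgroup H) := hAb.subgroup P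
  rcases Cfsg.Agent.Lib.H4.NF.cyclic_or_quat hAbP P.2 with hc | ⟨h, _⟩
  · exact hc
  · subst h
    exact hAb (P : Subgroup H) (h2 P)

/-- **`C_H(Q)` is a Hall subgroup of `G` with a normal complement** -/
theorem centralizer_compl_hall_and_complement (hTI : Cfsg.IsTISubset (H : Set G))
    (hHall : (Nat.card H).Coprime (H.subgroupOf (normalizer (H : Set G))).index)
    (hsep : PiSep H) [IsZGroup ↥H]
    (hQ : Q ≤ normalizer (H : Set G)) (hQH : Q ⊓ H = ⊥)
    (hQH' : Q ⊔ H = normalizer (H : Set G)) :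
    (Nat.card ↥(H ⊓ centralizer (Q : Set G))).Coprime (H ⊓ centralizer (Q : Set G)).index ∧
    ∃ N : Subgroup G, N.Normal ∧ N.IsComplement' (H ⊓ centralizer (Q : Set G)) := by
  classical
  set O := Cfsg.pPrimeCore (Nat.card H) G with hO
  haveI hOn : O.Normal := Cfsg.Agent.Lib.H22.pPrimeCore_normal (Nat.card H)
  set D := H ⊓ centralizer (Q : Set G) with hD
  set J := (⁅H, Q⁆ : Subgroup G) with hJ
  have hcop : (Nat.card Q).Coprime (Nat.card H) := compl_card_coprime hHall hQ hQH hQH'
  have hHs : Group.IsSolvable ↥H := inferInstance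
  have hCA : CoprimeAction Q H := ⟨hQ, hcop, Or.inr hHs⟩
  have hJD : (Nat.card J).Coprime (Nat.card D) := coprime_card_commutator_card_centralizer hCA
  have hJH : J ≤ H := hCA.commutator_le
  have hHJ : H ≤ normalizer (J : Set G) := Subgroup.normalizer_commutator_ge_left H Q
  have hQJ : Q ≤ normalizer (J : Set G) := Subgroup.normalizer_commutator_ge_right H Q
  have hsupJD : J ⊔ D = H := coprime_commutator_sup_centralizer hCA
  have hDH : D ≤ H := inf_le_left
  have hDJ : D ≤ normalizer (J : Set G) := hDH.trans hHJ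
  have hDdvd : Nat.card D ∣ Nat.card H := Subgroup.card_dvd_of_le hDH
  have hrel : D.relIndex H ∣ Nat.card J := by
    have h1 : Nat.card (J ⊔ D : Subgroup G) ∣ Nat.card J * Nat.card D :=
      Cfsg.Agent.Lib.H7.card_sup_dvd_mul_of_le_normalizer hDJ
    rw [hsupJD, ← card_mul_relIndex hDH, mul_comm (Nat.card J)] at h1
    exact Nat.dvd_of_mul_dvd_mul_left Nat.card_pos h1
  refine ⟨?_, ?_⟩
  · rw [← Subgroup.relIndex_mul_index hDH]
    exact Nat.Coprime.mul_right (Nat.Coprime.coprime_dvd_right hrel hJD.symm)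
      (Nat.Coprime.coprime_dvd_left hDdvd (coprime_index hTI hHall))
  · set JQ := J ⊔ Q with hJQ
    have hHJQ : H ≤ normalizer (JQ : Set G) := by
      intro h hh
      apply Subgroup.mem_normalizer_fintype
      intro x hx
      obtain ⟨j, hj, q, hq, rfl⟩ := mem_sup_of_le_normalizer hQJ hx
      have e : h * (j * q) * h⁻¹ = (h * j * h⁻¹) * ⁅h, q⁆ * q := by
        rw [commutatorElement_def]; group
      rw [SetLike.mem_coe, e]
      refine Subgroup.mul_mem _ (Subgroup.mul_mem _ (Subgroup.mem_sup_left ?_)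
        (Subgroup.mem_sup_left ?_)) (Subgroup.mem_sup_right hq)
      · exact (Subgroup.mem_normalizer_iff.mp (hHJ hh) j).mp hj
      · exact Subgroup.commutator_mem_commutator hh hq
    have hMn : (O ⊔ JQ).Normal := by
      rw [← Subgroup.normalizer_eq_top_iff, eq_top_iff,
        ← core_sup_normalizer_eq_top hTI hHall hsep, ← hO, ← hQH']
      refine sup_le (le_sup_left.trans le_normalizer) (sup_le ?_ ?_)
      · exact (le_sup_right.trans le_sup_right).trans le_normalizer
      · intro h hh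
        exact mem_normalizer_sup (by rw [Subgroup.normalizer_eq_top]; exact Subgroup.mem_top h)
          (hHJQ hh)
    have hMD : (Nat.card (O ⊔ JQ : Subgroup G)).Coprime (Nat.card D) := by
      have h1 : Nat.card (JQ ⊔ O : Subgroup G) ∣ Nat.card JQ * Nat.card O :=
        Cfsg.Agent.Lib.H22.card_sup_dvd_mul JQ O
      have h2 : Nat.card JQ ∣ Nat.card J * Nat.card Q :=
        Cfsg.Agent.Lib.H7.card_sup_dvd_mul_of_le_normalizer hQJ
      rw [sup_comm] at h1
      refine Nat.Coprime.coprime_dvd_left h1 (Nat.Coprime.mul_left ?_ ?_)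
      · refine Nat.Coprime.coprime_dvd_left h2 (Nat.Coprime.mul_left hJD ?_)
        exact Nat.Coprime.coprime_dvd_right hDdvd hcop
      · exact Nat.Coprime.coprime_dvd_right hDdvd
          (Cfsg.Agent.Lib.H22.card_pPrimeCore_coprime (Nat.card H))
    refine ⟨O ⊔ JQ, hMn, ?_⟩
    apply Subgroup.isComplement'_of_disjoint_and_mul_eq_univ
      (Subgroup.disjoint_of_coprime_natCard hMD)
    rw [Set.eq_univ_iff_forall]
    intro g
    have hg : g ∈ O ⊔ normalizer (H : Set G) := by
      rw [hO, core_sup_normalizer_eq_top hTI hHall hsep]; exact Subgroup.mem_top g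
    obtain ⟨o, ho, n, hn, rfl⟩ := mem_sup_of_le_normalizer
      (le_top.trans_eq (Subgroup.normalizer_eq_top (H := O)).symm) hg
    rw [← hQH', sup_comm] at hn
    obtain ⟨h, hh, q, hq, rfl⟩ := mem_sup_of_le_normalizer hQ hn
    rw [← hsupJD] at hh
    obtain ⟨j, hj, d, hd, rfl⟩ := mem_sup_of_le_normalizer hDJ hh
    have hdq : q * d = d * q := Subgroup.mem_centralizer_iff.mp hd.2 q hq
    refine Set.mem_mul.mpr ⟨o * j * q, ?_, d, hd, ?_⟩
    · exact Subgroup.mul_mem _ (Subgroup.mul_mem _ (Subgroup.mem_sup_left ho)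
        (Subgroup.mem_sup_right (Subgroup.mem_sup_left hj)))
        (Subgroup.mem_sup_right (Subgroup.mem_sup_right hq))
    · rw [mul_assoc (o * j), hdq]
      group

end Cfsg.Agent.Lib.H5.TIH
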